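import Groth.Agent.Lib.ExtFil4.Alg
import Mathlib.LinearAlgebra.ExteriorPower.Basis
import Mathlib.LinearAlgebra.Determinant

/-!
# The wedge pairing of complementary exterior powers of a finite free module is perfect
-/

set_option autoImplicit false
set_option maxHeartbeats 800000

universe u

open exteriorPower Set

noncomputable section

namespace Groth.Agent.HodgeSym12

variable {A : Type u} [CommRing A] {M : Type u} [AddCommGroup M] [Module A M] {p q n : ℕ}

/-- The coordinate on the top exterior power. -/
def topCoord (b : Module.Basis (Fin n) A M) : ⋀[A]^n M →ₗ[A] A :=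
  exteriorPower.alternatingMapLinearEquiv b.det

theorem topCoord_comp (b : Module.Basis (Fin n) A M) (v : Fin n → Fin n) (hv : Function.Injective v) :
    IsUnit (topCoord b (ιMulti A n (⇑b ∘ v))) := by
  classical
  let σ : Equiv.Perm (Fin n) := Equiv.ofBijective v (Finite.injective_iff_bijective.1 hv)
  rw [topCoord, exteriorPower.alternatingMapLinearEquiv_apply_ιMulti, show v = ⇑σ from rfl,
    AlternatingMap.map_perm, b.det_self, Units.smul_def, zsmul_eq_mul, mul_one]
  exact ((Equiv.Perm.sign σ).isUnit).map (Int.castRingHom A)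

theorem bijective_topCoord (b : Module.Basis (Fin n) A M) : Function.Bijective (topCoord b) := by
  classical
  let ω := ιMulti A n (⇑b)
  have h1 : topCoord b ω = 1 := by rw [topCoord, exteriorPower.alternatingMapLinearEquiv_apply_ιMulti, b.det_self]
  have key : (topCoord b).smulRight ω = LinearMap.id :=
    exteriorPower.linearMap_ext (Module.Basis.ext_alternating b fun v hv => by
      let σ : Equiv.Perm (Fin n) := Equiv.ofBijective v (Finite.injective_iff_bijective.1 hv)
      show topCoord b (ιMulti A n (⇑b ∘ σ)) • ω = ιMulti A n (⇑b ∘ σ)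
      rw [AlternatingMap.map_perm (ιMulti A n) (⇑b) σ, Units.smul_def, map_zsmul, h1, smul_assoc, one_smul])
  exact ⟨fun x y h => (LinearMap.congr_fun key x).symm.trans ((congrArg (· • ω) h).trans (LinearMap.congr_fun key y)),
    fun a => ⟨a • ω, by rw [map_smul, h1, smul_eq_mul, mul_one]⟩⟩

/-- The indices of a subset followed by the indices of another one. -/
def joinIdx (hn : p + q = n) (S : powersetCard (Fin n) p) (T : powersetCard (Fin n) q) (i : Fin n) : Fin n :=
  Fin.append (⇑(powersetCard.ofFinEmbEquiv.symm S)) (⇑(powersetCard.ofFinEmbEquiv.symm T)) (Fin.cast hn.symm i)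

theorem wedge_family (hn : p + q = n) (b : Module.Basis (Fin n) A M) (S : powersetCard (Fin n) p)
    (T : powersetCard (Fin n) q) :
    ExtFil4.wedge hn (ιMulti_family A p b S) (ιMulti_family A q b T) = ιMulti A n (⇑b ∘ joinIdx hn S T) := by
  rw [ιMulti_family, ιMulti_family, ExtFil4.wedge_ιMulti]
  congr 1
  funext i
  show _ = b (joinIdx hn S T i)
  unfold joinIdx
  induction (Fin.cast hn.symm i) using Fin.addCases with
  | left j => rw [Fin.append_left, Fin.append_left]; rfl
  | right j => rw [Fin.append_right, Fin.append_right]; rfl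

/-- The complementary subset. -/
def complSet (hn : p + q = n) (S : powersetCard (Fin n) p) : powersetCard (Fin n) q :=
  ⟨(S.1 : Finset (Fin n))ᶜ, by
    have h : (S.1 : Finset (Fin n)).card = p := S.2
    show ((S.1 : Finset (Fin n))ᶜ).card = q
    rw [Finset.card_compl, Fintype.card_fin, h]
    omega⟩

theorem wedge_compl (hn : p + q = n) (b : Module.Basis (Fin n) A M) (S : powersetCard (Fin n) p) :
    IsUnit (topCoord b (ExtFil4.wedge hn (ιMulti_family A p b S) (ιMulti_family A q b (complSet hn S)))) := by
  rw [wedge_family]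
  refine topCoord_comp b _ fun i j h => ?_
  have hne : ∀ a c, powersetCard.ofFinEmbEquiv.symm S a ≠ powersetCard.ofFinEmbEquiv.symm (complSet hn S) c := by
    intro a c e
    have h1 : powersetCard.ofFinEmbEquiv.symm S a ∈ (S.1 : Finset (Fin n)) :=
      (powersetCard.mem_range_ofFinEmbEquiv_symm_iff_mem S _).1 ⟨a, rfl⟩
    have h2 : powersetCard.ofFinEmbEquiv.symm (complSet hn S) c ∈ ((S.1 : Finset (Fin n))ᶜ) :=
      (powersetCard.mem_range_ofFinEmbEquiv_symm_iff_mem (complSet hn S) _).1 ⟨c, rfl⟩
    exact Finset.mem_compl.1 h2 (e ▸ h1)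
  refine Fin.cast_injective hn.symm (?_ : _)
  exact (Fin.append_injective_iff.2 ⟨(powersetCard.ofFinEmbEquiv.symm S).injective,
    (powersetCard.ofFinEmbEquiv.symm (complSet hn S)).injective, hne⟩) h

theorem wedge_ne_compl (hn : p + q = n) (b : Module.Basis (Fin n) A M) {S : powersetCard (Fin n) p}
    {T : powersetCard (Fin n) q} (h : T ≠ complSet hn S) :
    ExtFil4.wedge hn (ιMulti_family A p b S) (ιMulti_family A q b T) = 0 := by
  obtain ⟨x, hxS, hxT⟩ : ∃ x, x ∈ (S.1 : Finset (Fin n)) ∧ x ∈ (T.1 : Finset (Fin n)) := by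
    by_contra hc
    push_neg at hc
    refine h (Subtype.ext (Finset.eq_of_subset_of_card_le (fun x hx => Finset.mem_compl.2 fun hxS => hc x hxS hx) ?_))
    exact ((complSet hn S).2 : _ = q).le.trans (T.2 : _ = q).ge
  obtain ⟨a, ha⟩ := (powersetCard.mem_range_ofFinEmbEquiv_symm_iff_mem S x).2 hxS
  obtain ⟨c, hc⟩ := (powersetCard.mem_range_ofFinEmbEquiv_symm_iff_mem T x).2 hxT
  rw [wedge_family]
  refine AlternatingMap.map_eq_zero_of_eq _ _ (i := Fin.cast hn (Fin.castAdd q a)) (j := Fin.cast hn (Fin.natAdd p c))
    ?_ fun e => ?_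
  · show b (joinIdx hn S T _) = b (joinIdx hn S T _)
    simp only [joinIdx, Fin.cast_cast, Fin.cast_eq_self, Fin.append_left, Fin.append_right, ha, hc]
  · have := congrArg Fin.val e
    simp at this
    omega

/-- The wedge pairing into the top power is perfect. -/
theorem bijective_wedge (hn : p + q = n) (b : Module.Basis (Fin n) A M) :
    Function.Bijective fun a : ⋀[A]^p M => ExtFil4.wedge (q := q) hn a := by
  classical
  let Bp := b.exteriorPower p
  let Bq := b.exteriorPower q
  let t := LinearEquiv.ofBijective (topCoord b) (bijective_topCoord b)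
  let E : (⋀[A]^q M →ₗ[A] ⋀[A]^n M) ≃ₗ[A] (powersetCard (Fin n) q → A) :=
    (Bq.constr A).symm.trans (LinearEquiv.piCongrRight fun _ => t)
  let c : powersetCard (Fin n) p → A := fun S =>
    topCoord b (ExtFil4.wedge hn (ιMulti_family A p b S) (ιMulti_family A q b (complSet hn S)))
  have key : ∀ (x : ⋀[A]^p M) S, E (ExtFil4.wedge hn x) (complSet hn S) = Bp.repr x S * c S := by
    intro x S
    show topCoord b (ExtFil4.wedge hn x (Bq (complSet hn S))) = _
    conv_lhs => rw [← Bp.sum_repr x]
    rw [map_sum, LinearMap.sum_apply, map_sum, Finset.sum_eq_single S]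
    · rw [map_smul, LinearMap.smul_apply, map_smul, smul_eq_mul, exteriorPower.basis_apply, exteriorPower.basis_apply]
    · intro S' _ hS'
      rw [map_smul, LinearMap.smul_apply, exteriorPower.basis_apply, exteriorPower.basis_apply,
        wedge_ne_compl hn b (fun e => hS' (Subtype.ext (compl_injective (congrArg Subtype.val e)).symm)), smul_zero,
        map_zero]
    · exact fun h => absurd (Finset.mem_univ S) h
  have hc : ∀ S, IsUnit (c S) := fun S => wedge_compl hn b S
  have hsur : Function.Surjective (complSet (p := p) hn) := fun T =>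
    ⟨complSet (show q + p = n by omega) T, Subtype.ext (compl_compl _)⟩
  refine ⟨fun x y h => Bp.repr.injective (Finsupp.ext fun S => (hc S).mul_right_cancel ?_), fun g => ?_⟩
  · rw [← key x S, ← key y S]
    exact congrArg (fun z => E z (complSet hn S)) h
  · choose u hu using fun S => (hc S).exists_left_inv
    refine ⟨∑ S, (E g (complSet hn S) * u S) • Bp S, E.injective (funext fun T => ?_)⟩
    obtain ⟨S, rfl⟩ := hsur T
    rw [key, Bp.repr_sum_self, mul_assoc, hu, mul_one]

end Groth.Agent.HodgeSym12
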