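import Groth.Agent.Lib.HodgeSym12.Alg
import Groth.Agent.Lib.DeRhamH7.Terms
import Groth.Agent.Lib.LiftFib11.HomBC
import Groth.Agent.Lib.ExtFil4.Main

/-!
# Complementary exterior powers are dual into the top one
-/

set_option autoImplicit false
set_option linter.style.haveILetI false
set_option linter.unusedSectionVars false
set_option backward.isDefEq.respectTransparency false
set_option backward.isDefEq.respectTransparency.types false
set_option maxHeartbeats 800000

universe u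

open CategoryTheory CategoryTheory.Limits AlgebraicGeometry Opposite TopologicalSpace TensorProduct exteriorPower

noncomputable section

namespace Groth.Agent.HodgeSym12

open Groth.Agent Groth.Agent.ExtFil4
open Groth.Agent.KoszShH13 (IsAffBasis isAffBasis_top exists_glue bijective_stalk_of_basis)
open Groth.Agent.P1Split (IsBas)

variable {X : Scheme.{u}} {E L L' W : X.Modules} {p q n : ℕ}

section local_

variable (hn : p + q = n)
  (φ : ∀ U : X.affineOpens, Γ(L, U.1) ≃ₗ[Γ(X, U.1)] ↥(⋀[Γ(X, U.1)]^p Γ(E, U.1)))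
  (φ' : ∀ U : X.affineOpens, Γ(L', U.1) ≃ₗ[Γ(X, U.1)] ↥(⋀[Γ(X, U.1)]^q Γ(E, U.1)))
  (ψ : ∀ U : X.affineOpens, Γ(W, U.1) ≃ₗ[Γ(X, U.1)] ↥(⋀[Γ(X, U.1)]^n Γ(E, U.1)))

/-- The pairing on sections over an affine open. -/
def pairSec (U : X.affineOpens) : Γ(L', U.1) →ₗ[Γ(X, U.1)] Γ(L, U.1) →ₗ[Γ(X, U.1)] Γ(W, U.1) :=
  LinearMap.mk₂ Γ(X, U.1) (fun s t => (ψ U).symm (wedge hn (φ U t) (φ' U s)))
    (fun s s' t => by simp) (fun c s t => by simp) (fun s t t' => by simp) (fun c s t => by simp)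

theorem pairSec_apply (U : X.affineOpens) (s : Γ(L', U.1)) (t : Γ(L, U.1)) :
    pairSec hn φ φ' ψ U s t = (ψ U).symm (wedge hn (φ U t) (φ' U s)) := rfl

theorem mres_pairSec
    (hφ : ∀ (U V : X.affineOpens) (h : V.1 ≤ U.1) (e : Fin p → Γ(E, U.1)),
      M1.mres L h ((φ U).symm (ιMulti _ p e)) = (φ V).symm (ιMulti _ p fun j => M1.mres E h (e j)))
    (hφ' : ∀ (U V : X.affineOpens) (h : V.1 ≤ U.1) (e : Fin q → Γ(E, U.1)),
      M1.mres L' h ((φ' U).symm (ιMulti _ q e)) = (φ' V).symm (ιMulti _ q fun j => M1.mres E h (e j)))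
    (hψ : ∀ (U V : X.affineOpens) (h : V.1 ≤ U.1) (e : Fin n → Γ(E, U.1)),
      M1.mres W h ((ψ U).symm (ιMulti _ n e)) = (ψ V).symm (ιMulti _ n fun j => M1.mres E h (e j)))
    (U V : X.affineOpens) (h : V.1 ≤ U.1) (s : Γ(L', U.1)) (t : Γ(L, U.1)) :
    M1.mres W h (pairSec hn φ φ' ψ U s t) = pairSec hn φ φ' ψ V (M1.mres L' h s) (M1.mres L h t) := by
  obtain ⟨a, rfl⟩ := (φ U).symm.surjective t
  obtain ⟨b, rfl⟩ := (φ' U).symm.surjective s
  have ha : a ∈ Submodule.span Γ(X, U.1) (Set.range (ιMulti Γ(X, U.1) p (M := Γ(E, U.1)))) := by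
    rw [ιMulti_span]; trivial
  induction ha using Submodule.span_induction with
  | zero => simp
  | add a a' _ _ ha ha' => simp only [map_add, LinearMap.add_apply, ha, ha']
  | smul c a _ ha => simp only [map_smul, res_smul, LinearMap.smul_apply, ha]
  | mem a ha =>
    obtain ⟨e, rfl⟩ := ha
    have hb : b ∈ Submodule.span Γ(X, U.1) (Set.range (ιMulti Γ(X, U.1) q (M := Γ(E, U.1)))) := by
      rw [ιMulti_span]; trivial
    induction hb using Submodule.span_induction with
    | zero => simp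
    | add b b' _ _ hb hb' => simp only [map_add, LinearMap.add_apply, hb, hb']
    | smul c b _ hb => simp only [map_smul, res_smul, LinearMap.smul_apply, hb]
    | mem b hb =>
      obtain ⟨e', rfl⟩ := hb
      rw [pairSec_apply, LinearEquiv.apply_symm_apply, LinearEquiv.apply_symm_apply, wedge_ιMulti, hψ,
        pairSec_apply, hφ U V h e, hφ' U V h e', LinearEquiv.apply_symm_apply, LinearEquiv.apply_symm_apply,
        wedge_ιMulti]
      congr 2
      funext i
      induction (Fin.cast hn.symm i) using Fin.addCases with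
      | left j => rw [Fin.append_left, Fin.append_left]
      | right j => rw [Fin.append_right, Fin.append_right]

end local_

/-- `Λ^p E ≅ ℋom(Λ^q E, Λ^n E)` for `E` locally free of rank `n = p + q`. -/
theorem nonempty_extPow_iso_hom (hn : p + q = n) (hE : FlatMod.IsFinLocFreeOfRank n E)
    (hL : ExtPow.IsExtPow p E L) (hL' : ExtPow.IsExtPow q E L') (hW : ExtPow.IsExtPow n E W) :
    Nonempty (L ≅ M2.homMod L' W) := by
  obtain ⟨φ, hφ⟩ := exists_phi hL
  obtain ⟨φ', hφ'⟩ := exists_phi hL'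
  obtain ⟨ψ, hψ⟩ := exists_phi hW
  have hE' := M2.isFinLocFree_of_ofRank hE
  have hqL := M2.isQCoh_of_isFinLocFree (DeRhamH7.isFinLocFree_extPow hE' hL)
  have hqL' := M2.isQCoh_of_isFinLocFree (DeRhamH7.isFinLocFree_extPow hE' hL')
  let eT : ∀ U : X.affineOpens, Γ(L', U.1) ⊗[Γ(X, U.1)] Γ(L, U.1) ≃ₗ[Γ(X, U.1)] Γ(CohB1.tensorMod L' L, U.1) :=
    fun U => LinearEquiv.ofBijective _ (CBC10.bijective_secTensor L' L hqL' hqL U.2)
  let fam : ∀ U : X.affineOpens, Γ(CohB1.tensorMod L' L, U.1) →ₗ[Γ(X, U.1)] Γ(W, U.1) := fun U =>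
    (TensorProduct.lift (pairSec hn φ φ' ψ U)).comp (eT U).symm.toLinearMap
  have hfam : ∀ (U : X.affineOpens) s t, fam U (M2.tsec L' L s t) = pairSec hn φ φ' ψ U s t := fun U s t => by
    show TensorProduct.lift (pairSec hn φ φ' ψ U) ((eT U).symm (M2.tsec L' L s t)) = _
    rw [show (eT U).symm (M2.tsec L' L s t) = s ⊗ₜ t from
      (LinearEquiv.symm_apply_eq _).2 (CBC10.secTensor_tmul L' L s t).symm, TensorProduct.lift.tmul]
  obtain ⟨π, hπ⟩ := exists_glue isAffBasis_top (fun U _ => (fam U).toAddMonoidHom) (fun U _ c m => (fam U).map_smul c m)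
    fun U _ V _ h m => by
      show M1.mres W h (fam U m) = fam V (M1.mres _ h m)
      obtain ⟨z, rfl⟩ := (eT U).surjective m
      induction z using TensorProduct.induction_on with
      | zero => simp
      | add a b ha hb => simp only [map_add, ha, hb]
      | tmul s t =>
        rw [show eT U (s ⊗ₜ t) = M2.tsec L' L s t from CBC10.secTensor_tmul L' L s t, hfam,
          show M1.mres _ h (M2.tsec L' L s t) = M2.tsec L' L (M1.mres L' h s) (M1.mres L h t) from M2.res_tsec h s t,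
          hfam]
        exact mres_pairSec hn φ φ' ψ hφ hφ' hψ U V h s t
  let θ : L ⟶ M2.homMod L' W := HilbObs3.homEquivT L' L W π
  have hθ : ∀ (U : X.affineOpens) (t : Γ(L, U.1)) (s : Γ(L', U.1)),
      LiftFib11.hev L' W (θ.app U.1 t) le_rfl s = (ψ U).symm (wedge hn (φ U t) (φ' U s)) := fun U t s => by
    show π.app U.1 (M2.tsec L' L s (M1.mres L le_rfl t)) = _
    rw [M1.mres_id]
    exact (hπ U trivial _).trans (hfam U s t)
  let P : X.affineOpens → Prop := fun U => ∃ (D : X.Opens) (e : Fin n → Γ(E, D)), U.1 ≤ D ∧ IsBas E D e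
  have hP : IsAffBasis P := fun O x hx => by
    obtain ⟨D, e, hxD, he⟩ := P1Split.exists_isBas_nhd hE x
    obtain ⟨V, -, hxV, hV⟩ := isAffBasis_top (O ⊓ D) x ⟨hx, hxD⟩
    exact ⟨V, ⟨D, e, hV.trans inf_le_right, he⟩, hxV, hV.trans inf_le_left⟩
  haveI : IsIso θ := (M1.isIso_iff_stalk θ).2 fun x => bijective_stalk_of_basis hP θ x fun U ⟨D, e, hUD, he⟩ _ => by
    let b := DeRhamH7.basOf he hUD
    obtain ⟨g, hg⟩ := DeRhamH7.exists_isBas_extPow hL' he U hUD
    have hev := LiftFib11.bijective_eval W hg (le_refl U.1)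
    let bg := DeRhamH7.basOf hg (le_refl U.1)
    refine (hev.of_comp_iff' _).1 ?_
    let K : ↥(⋀[Γ(X, U.1)]^p Γ(E, U.1)) → (Fin (Fintype.card (Set.powersetCard (Fin n) q)) → Γ(W, U.1)) :=
      fun a => (bg.constr Γ(X, U.1)).symm ((ψ U).symm.toLinearMap.comp ((wedge hn a).comp (φ' U).toLinearMap))
    have hK : Function.Bijective K := by
      refine (bg.constr Γ(X, U.1)).symm.bijective.comp ?_
      exact ((φ' U).symm.arrowCongr (ψ U).symm).bijective.comp (bijective_wedge (q := q) hn b)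
    convert hK.comp (φ U).bijective using 1
    funext t i
    show LiftFib11.hev L' W (θ.app U.1 t) le_rfl (M1.mres L' le_rfl (g i)) = (ψ U).symm (wedge hn (φ U t) (φ' U (bg i)))
    rw [hθ, DeRhamH7.basOf_apply]
  exact ⟨asIso θ⟩

end Groth.Agent.HodgeSym12
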